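import Cfsg.Agent.R3.Walk1
import Cfsg.Agent.Schur.M22.Pres
import Cfsg.Agent.SchurG.HS.Main

set_option autoImplicit false
set_option maxRecDepth 100000

namespace Cfsg.Agent.R3.HS
open Cfsg.Agent.Comp Cfsg.Agent.Schur Cfsg.Agent.R3 Cfsg

noncomputable def n0 : Net :=
(Net.cons (nat_lit 0x10d80007020c0) (nat_lit 50)
(Net.cons (nat_lit 0x84df00000001a4ae20) (nat_lit 25)
(Net.cons (nat_lit 0x53600001180004f000080a) (nat_lit 13)
(Net.cons (nat_lit 0x1800780c00e801005c01802b) (nat_lit 6)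
(Net.cons (nat_lit 0x800000218010308108184) (nat_lit 3)
(Net.cons (nat_lit 0x2402208040000804082002000) (nat_lit 2)
(Net.cons (nat_lit 0x2401208242804824482412848) (nat_lit 1)
(Net.cons (nat_lit 0x2092049249904104c00410648) (nat_lit 2)
(Net.cons (nat_lit 0x810c28a20614118382102181) (nat_lit 3)
(Net.cons (nat_lit 0x2400680280e406406602202e) (nat_lit 6)
(Net.cons (nat_lit 0x4a300021b4001d26000ecc) (nat_lit 13)
(Net.cons (nat_lit 0x77b00fc0000005b59df) (nat_lit 25)
(Net.cons (nat_lit 0x10d9000602ac0) (nat_lit 50)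
Net.nil)))))))))))))

noncomputable def n1 : Net :=
(Net.cons (nat_lit 0x16b4103d98944) (nat_lit 50)
(Net.cons (nat_lit 0x5a7c9d80000010c2800) (nat_lit 25)
(Net.cons (nat_lit 0x349000323c0015f0000fa6) (nat_lit 13)
(Net.cons (nat_lit 0x2a01c014007c08004404802a) (nat_lit 6)
(Net.cons (nat_lit 0x1000810800100210208000000) (nat_lit 3)
(Net.cons (nat_lit 0x482000008024100810482008) (nat_lit 2)
(Net.cons (nat_lit 0x249404020a924925090482a49) (nat_lit 1)
(Net.cons (nat_lit 0x2093008201120104812400241) (nat_lit 2)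
(Net.cons (nat_lit 0x40061060000030008c204044) (nat_lit 3)
(Net.cons (nat_lit 0x1c01401c00bc00c048004015) (nat_lit 6)
(Net.cons (nat_lit 0x1b90002da000113c000f61) (nat_lit 13)
(Net.cons (nat_lit 0x35b3e30000001173538) (nat_lit 25)
(Net.cons (nat_lit 0x1632103c11b44) (nat_lit 50)
Net.nil)))))))))))))

noncomputable def n2 : Net :=
(Net.cons (nat_lit 0x362bd035ac41c) (nat_lit 50)
(Net.cons (nat_lit 0x6aae88000000183abfa) (nat_lit 25)
(Net.cons (nat_lit 0x6ac0001414000c600003c1) (nat_lit 13)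
(Net.cons (nat_lit 0x400d00100280c8010020021) (nat_lit 6)
(Net.cons (nat_lit 0x1820800820418010000304002) (nat_lit 3)
(Net.cons (nat_lit 0x2002241008104820002000001) (nat_lit 2)
(Net.cons (nat_lit 0x2481249008124920492090049) (nat_lit 1)
(Net.cons (nat_lit 0x490200041820104882092648) (nat_lit 2)
(Net.cons (nat_lit 0x1c40030208014108288184101) (nat_lit 3)
(Net.cons (nat_lit 0x3201f808008c01006a00402a) (nat_lit 6)
(Net.cons (nat_lit 0x33a0000f04001bb4000505) (nat_lit 13)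
(Net.cons (nat_lit 0x60eafe8000001aaba20) (nat_lit 25)
(Net.cons (nat_lit 0x9d42fca53be3) (nat_lit 50)
Net.nil)))))))))))))

noncomputable def n3 : Net :=
(Net.cons (nat_lit 0x13c108566d80) (nat_lit 50)
(Net.cons (nat_lit 0xd9d088000000df0d3e) (nat_lit 25)
(Net.cons (nat_lit 0x1c80001d0c000fac00053c) (nat_lit 13)
(Net.cons (nat_lit 0x400a0020068000020060020) (nat_lit 6)
(Net.cons (nat_lit 0x1040820000600618204000042) (nat_lit 3)
(Net.cons (nat_lit 0x400001008000804010000041) (nat_lit 2)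
(Net.cons (nat_lit 0x41520100a900805490012a41) (nat_lit 1)
(Net.cons (nat_lit 0x2413009041804000492012409) (nat_lit 2)
(Net.cons (nat_lit 0xc50c0060041010428a388185) (nat_lit 3)
(Net.cons (nat_lit 0x2100d005005000404001c010) (nat_lit 6)
(Net.cons (nat_lit 0x3a18000e40000a780007d6) (nat_lit 13)
(Net.cons (nat_lit 0x7262f7400000120f2c1) (nat_lit 25)
(Net.cons (nat_lit 0x13c108566d80) (nat_lit 50)
Net.nil)))))))))))))

noncomputable def n4 : Net :=
(Net.cons (nat_lit 0x9b8c9d9c5ae4) (nat_lit 50)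
(Net.cons (nat_lit 0x18206c0000001d7d052) (nat_lit 25)
(Net.cons (nat_lit 0x1eb000293400104800055c) (nat_lit 13)
(Net.cons (nat_lit 0x3200101000b0020048070020) (nat_lit 6)
(Net.cons (nat_lit 0x420030018010380200040) (nat_lit 3)
(Net.cons (nat_lit 0x410240008004004000000440) (nat_lit 2)
(Net.cons (nat_lit 0x2410249248024905090012249) (nat_lit 1)
(Net.cons (nat_lit 0x12241041904800402410600) (nat_lit 2)
(Net.cons (nat_lit 0xc60a20e3870041c0863821c6) (nat_lit 3)
(Net.cons (nat_lit 0x3600100f80b804c008026005) (nat_lit 6)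
(Net.cons (nat_lit 0x17f000117c001ccc00056f) (nat_lit 13)
(Net.cons (nat_lit 0x703f998000000282fad) (nat_lit 25)
(Net.cons (nat_lit 0x9b8c9d9c5ae4) (nat_lit 50)
Net.nil)))))))))))))

noncomputable def n5 : Net :=
(Net.cons (nat_lit 0x47902e0d2400) (nat_lit 50)
(Net.cons (nat_lit 0x58600000000775340) (nat_lit 25)
(Net.cons (nat_lit 0x4400007b4000990000c80) (nat_lit 13)
(Net.cons (nat_lit 0x401401400b4030064008030) (nat_lit 6)
(Net.cons (nat_lit 0x820c00c10018400100204104) (nat_lit 3)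
(Net.cons (nat_lit 0x240020004010002000) (nat_lit 2)
(Net.cons (nat_lit 0x481001248024004012412840) (nat_lit 1)
(Net.cons (nat_lit 0x10201009904124802082001) (nat_lit 2)
(Net.cons (nat_lit 0x820c1022850440018e204106) (nat_lit 3)
(Net.cons (nat_lit 0x401401400b4030064008038) (nat_lit 6)
(Net.cons (nat_lit 0x4600007b40009b0000c80) (nat_lit 13)
(Net.cons (nat_lit 0x5860000000077f340) (nat_lit 25)
(Net.cons (nat_lit 0x47902e0d2480) (nat_lit 50)
Net.nil)))))))))))))

noncomputable def n6 : Net :=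
(Net.cons (nat_lit 0x3f7d3e0000800) (nat_lit 50)
(Net.cons (nat_lit 0x3a4e720000000800c00) (nat_lit 25)
(Net.cons (nat_lit 0x3680000a800006c8000001) (nat_lit 13)
(Net.cons (nat_lit 0x2801000c00b00b006c004000) (nat_lit 6)
(Net.cons (nat_lit 0x800000608200380200184) (nat_lit 3)
(Net.cons (nat_lit 0x200000120020002082041) (nat_lit 2)
(Net.cons (nat_lit 0x4241248120824082482841) (nat_lit 1)
(Net.cons (nat_lit 0x2000200000924900c02412041) (nat_lit 2)
(Net.cons (nat_lit 0x870a00e0040071c3881801c5) (nat_lit 3)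
(Net.cons (nat_lit 0x2901080c007808806c004009) (nat_lit 6)
(Net.cons (nat_lit 0x2488000a800015c8000c01) (nat_lit 13)
(Net.cons (nat_lit 0x3a4e720000000800c00) (nat_lit 25)
(Net.cons (nat_lit 0x3f7d3e0000800) (nat_lit 50)
Net.nil)))))))))))))

noncomputable def T : List Net := [n0, n1, n2, n3, n4, n5, n6]

theorem okT : TOK 100 T := TOK_of_ok (by decide +kernel)

noncomputable def x0 : Net :=
(Net.cons (nat_lit 0x41c64bf61bd4) (nat_lit 50)
(Net.cons (nat_lit 0x26dd000000042e050) (nat_lit 25)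
(Net.cons (nat_lit 0x5410003c80000bd0000f10) (nat_lit 13)
(Net.cons (nat_lit 0x2000200800400d0038040037) (nat_lit 6)
(Net.cons (nat_lit 0x1040630c00010200108204004) (nat_lit 3)
(Net.cons (nat_lit 0x10000201120800810080000) (nat_lit 2)
(Net.cons (nat_lit 0x494241240924801010490801) (nat_lit 1)
(Net.cons (nat_lit 0x2091009001824004012092401) (nat_lit 2)
(Net.cons (nat_lit 0x1010618810314500080384000) (nat_lit 3)
(Net.cons (nat_lit 0x1e01300480e00d8012040007) (nat_lit 6)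
(Net.cons (nat_lit 0x2500036f0001d360009f4) (nat_lit 13)
(Net.cons (nat_lit 0x17323dc000001be32b0) (nat_lit 25)
(Net.cons (nat_lit 0x19103ce9bbb34) (nat_lit 50)
Net.nil)))))))))))))

noncomputable def x1 : Net :=
(Net.cons (nat_lit 0x19103ce9bbb34) (nat_lit 50)
(Net.cons (nat_lit 0x68cdc20000001be32b0) (nat_lit 25)
(Net.cons (nat_lit 0x2520002108001c32000a54) (nat_lit 13)
(Net.cons (nat_lit 0x401f00a00980e005204000b) (nat_lit 6)
(Net.cons (nat_lit 0x1040010000310200000208004) (nat_lit 3)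
(Net.cons (nat_lit 0x400208049000000010402401) (nat_lit 2)
(Net.cons (nat_lit 0x2494208248904101010482801) (nat_lit 1)
(Net.cons (nat_lit 0x481048201820104812410000) (nat_lit 2)
(Net.cons (nat_lit 0x1070c08a0031440408c102005) (nat_lit 3)
(Net.cons (nat_lit 0x700180080100f401c04003b) (nat_lit 6)
(Net.cons (nat_lit 0x7710002e88000bf4000cd0) (nat_lit 13)
(Net.cons (nat_lit 0x7fd922c00000042e050) (nat_lit 25)
(Net.cons (nat_lit 0x41c64bf61bd4) (nat_lit 50)
Net.nil)))))))))))))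

noncomputable def x2 : Net :=
(Net.cons (nat_lit 0x32054808c5884) (nat_lit 50)
(Net.cons (nat_lit 0x4a37840000000335800) (nat_lit 25)
(Net.cons (nat_lit 0x228003a28001774000f05) (nat_lit 13)
(Net.cons (nat_lit 0x1001600a8070040010008) (nat_lit 6)
(Net.cons (nat_lit 0x100021080021000000010c080) (nat_lit 3)
(Net.cons (nat_lit 0x402040200104000080010040) (nat_lit 2)
(Net.cons (nat_lit 0x2491040202924021092410048) (nat_lit 1)
(Net.cons (nat_lit 0x12049240104004080480441) (nat_lit 2)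
(Net.cons (nat_lit 0x460a1081021020008038c080) (nat_lit 3)
(Net.cons (nat_lit 0x3f01801600a80f004000c008) (nat_lit 6)
(Net.cons (nat_lit 0x4b38003a2c00177c000f05) (nat_lit 13)
(Net.cons (nat_lit 0x4a37840000001335800) (nat_lit 25)
(Net.cons (nat_lit 0x32054808c5884) (nat_lit 50)
Net.nil)))))))))))))

noncomputable def x3 : Net :=
(Net.cons (nat_lit 0x25a37dee00640) (nat_lit 50)
(Net.cons (nat_lit 0x3af1a1800000040d002) (nat_lit 25)
(Net.cons (nat_lit 0x39200018280009e8000480) (nat_lit 13)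
(Net.cons (nat_lit 0x3801680b00a00a0048020010) (nat_lit 6)
(Net.cons (nat_lit 0x60e2000040000028c204000) (nat_lit 3)
(Net.cons (nat_lit 0x480200000024000080002440) (nat_lit 2)
(Net.cons (nat_lit 0x48024100a024005482002840) (nat_lit 1)
(Net.cons (nat_lit 0x2403240240024900090412440) (nat_lit 2)
(Net.cons (nat_lit 0x870e30e3841c70428c304042) (nat_lit 3)
(Net.cons (nat_lit 0x3e01681480a00a006a022010) (nat_lit 6)
(Net.cons (nat_lit 0x61b0001828000bf8000480) (nat_lit 13)
(Net.cons (nat_lit 0x3af1a1800000140d002) (nat_lit 25)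
(Net.cons (nat_lit 0x25a77dea04640) (nat_lit 50)
Net.nil)))))))))))))

noncomputable def x4 : Net :=
(Net.cons (nat_lit 0xbea18056588) (nat_lit 50)
(Net.cons (nat_lit 0x75945a0000001850400) (nat_lit 25)
(Net.cons (nat_lit 0x59400012b0001f300001c4) (nat_lit 13)
(Net.cons (nat_lit 0x300148030090088018004008) (nat_lit 6)
(Net.cons (nat_lit 0x80000000800000830c100) (nat_lit 3)
(Net.cons (nat_lit 0x2240000100100800002040) (nat_lit 2)
(Net.cons (nat_lit 0x201124900a120100480082040) (nat_lit 1)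
(Net.cons (nat_lit 0x2492000200100104810080048) (nat_lit 2)
(Net.cons (nat_lit 0xc6080842000060000c108100) (nat_lit 3)
(Net.cons (nat_lit 0xf01700f00f408005806200c) (nat_lit 6)
(Net.cons (nat_lit 0x8d8000ad80017300005c4) (nat_lit 13)
(Net.cons (nat_lit 0x75945a0000001014180) (nat_lit 25)
(Net.cons (nat_lit 0xbea18056588) (nat_lit 50)
Net.nil)))))))))))))

noncomputable def x5 : Net :=
(Net.cons (nat_lit 0x30a885c318e00) (nat_lit 50)
(Net.cons (nat_lit 0x41987100000018c3a00) (nat_lit 25)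
(Net.cons (nat_lit 0x78e00010100005940006c0) (nat_lit 13)
(Net.cons (nat_lit 0x300088120000080058050000) (nat_lit 6)
(Net.cons (nat_lit 0x20c30020718600184000084) (nat_lit 3)
(Net.cons (nat_lit 0x209200120024000000000) (nat_lit 2)
(Net.cons (nat_lit 0x8024920a924825410400000) (nat_lit 1)
(Net.cons (nat_lit 0x3241240120124c80082648) (nat_lit 2)
(Net.cons (nat_lit 0xc60c08a205102001842041c4) (nat_lit 3)
(Net.cons (nat_lit 0x3000880300c408005805000c) (nat_lit 6)
(Net.cons (nat_lit 0x78e800228c000d940006c0) (nat_lit 13)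
(Net.cons (nat_lit 0x4198710000001a83a40) (nat_lit 25)
(Net.cons (nat_lit 0x30a885c318e00) (nat_lit 50)
Net.nil)))))))))))))

noncomputable def x6 : Net :=
(Net.cons (nat_lit 0x2bf11e70e042) (nat_lit 50)
(Net.cons (nat_lit 0x67632c000000040c160) (nat_lit 25)
(Net.cons (nat_lit 0x228000341c001108000840) (nat_lit 13)
(Net.cons (nat_lit 0x801000e0048048056054000) (nat_lit 6)
(Net.cons (nat_lit 0x20030c0000801008410c040) (nat_lit 3)
(Net.cons (nat_lit 0x40008104004810002400) (nat_lit 2)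
(Net.cons (nat_lit 0x2410248248104024410402200) (nat_lit 1)
(Net.cons (nat_lit 0x2009041924020812012400) (nat_lit 2)
(Net.cons (nat_lit 0x1c20808c3800850c28610e0c0) (nat_lit 3)
(Net.cons (nat_lit 0x1b01000e004c04c056050000) (nat_lit 6)
(Net.cons (nat_lit 0x328000341c0015a0000940) (nat_lit 13)
(Net.cons (nat_lit 0x67632c0000000006160) (nat_lit 25)
(Net.cons (nat_lit 0x2b711e61e042) (nat_lit 50)
Net.nil)))))))))))))

noncomputable def x7 : Net :=
(Net.cons (nat_lit 0x4d9f4b74b96e) (nat_lit 50)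
(Net.cons (nat_lit 0x6826e20000001b54012) (nat_lit 25)
(Net.cons (nat_lit 0x7810001290000062000a54) (nat_lit 13)
(Net.cons (nat_lit 0x8002005005404807404c004) (nat_lit 6)
(Net.cons (nat_lit 0x840a00030600008280000080) (nat_lit 3)
(Net.cons (nat_lit 0x400000241000000012410040) (nat_lit 2)
(Net.cons (nat_lit 0x414249242120004492490840) (nat_lit 1)
(Net.cons (nat_lit 0x2413240200924900890080400) (nat_lit 2)
(Net.cons (nat_lit 0xc0001842800440418418a042) (nat_lit 3)
(Net.cons (nat_lit 0x13015016805400407404000c) (nat_lit 6)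
(Net.cons (nat_lit 0x3d400039c0000fc8000656) (nat_lit 13)
(Net.cons (nat_lit 0x45d80b4000001802de6) (nat_lit 25)
(Net.cons (nat_lit 0x3354791fb2b36) (nat_lit 50)
Net.nil)))))))))))))

noncomputable def x8 : Net :=
(Net.cons (nat_lit 0x1454b9582a536) (nat_lit 50)
(Net.cons (nat_lit 0x322f508000000bf8284) (nat_lit 25)
(Net.cons (nat_lit 0x14380010300019c00008a0) (nat_lit 13)
(Net.cons (nat_lit 0x1e01880e00d0078002058006) (nat_lit 6)
(Net.cons (nat_lit 0x40420000110400080008080) (nat_lit 3)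
(Net.cons (nat_lit 0x2410041240120800080002040) (nat_lit 2)
(Net.cons (nat_lit 0x2414249242124821490482a48) (nat_lit 1)
(Net.cons (nat_lit 0x2010248049020120c80410040) (nat_lit 2)
(Net.cons (nat_lit 0x5040802851430428810a142) (nat_lit 3)
(Net.cons (nat_lit 0x3300500500540e403205e022) (nat_lit 6)
(Net.cons (nat_lit 0x5ae000109c00082a00016a) (nat_lit 13)
(Net.cons (nat_lit 0x729bca00000008eec7e) (nat_lit 25)
(Net.cons (nat_lit 0x39aca2a8b3432) (nat_lit 50)
Net.nil)))))))))))))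

noncomputable def x9 : Net :=
(Net.cons (nat_lit 0x361503238a190) (nat_lit 50)
(Net.cons (nat_lit 0x1b004400000001b0e80) (nat_lit 25)
(Net.cons (nat_lit 0x2980002878000700000670) (nat_lit 13)
(Net.cons (nat_lit 0x120118040000028054000031) (nat_lit 6)
(Net.cons (nat_lit 0x80080011000018c100000) (nat_lit 3)
(Net.cons (nat_lit 0x400201008000024080000041) (nat_lit 2)
(Net.cons (nat_lit 0x410249008104124090090a41) (nat_lit 1)
(Net.cons (nat_lit 0x92249249120820810490648) (nat_lit 2)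
(Net.cons (nat_lit 0x800e0000841060438810a004) (nat_lit 3)
(Net.cons (nat_lit 0xe01d80e8084010050022017) (nat_lit 6)
(Net.cons (nat_lit 0x22e000116800048000051a) (nat_lit 13)
(Net.cons (nat_lit 0x2a15d1c00000115ad28) (nat_lit 25)
(Net.cons (nat_lit 0x39e02bf514524) (nat_lit 50)
Net.nil)))))))))))))

noncomputable def x10 : Net :=
(Net.cons (nat_lit 0xe918893c09e2) (nat_lit 50)
(Net.cons (nat_lit 0x3706a30000001640200) (nat_lit 25)
(Net.cons (nat_lit 0x3d10003178001090000350) (nat_lit 13)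
(Net.cons (nat_lit 0x1d0090060018000040010) (nat_lit 6)
(Net.cons (nat_lit 0x1000820020010000000308100) (nat_lit 3)
(Net.cons (nat_lit 0x2002008041000100000400000) (nat_lit 2)
(Net.cons (nat_lit 0x2414249240800104000400008) (nat_lit 1)
(Net.cons (nat_lit 0x2002008041020004000490200) (nat_lit 2)
(Net.cons (nat_lit 0x104082002801800020a30c100) (nat_lit 3)
(Net.cons (nat_lit 0x801d0190064084024040032) (nat_lit 6)
(Net.cons (nat_lit 0x3d10003778001490000350) (nat_lit 13)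
(Net.cons (nat_lit 0x3706a300000016c0200) (nat_lit 25)
(Net.cons (nat_lit 0xed18893c09e2) (nat_lit 50)
Net.nil)))))))))))))

noncomputable def x11 : Net :=
(Net.cons (nat_lit 0x10af12e4f0268) (nat_lit 50)
(Net.cons (nat_lit 0x138ba58000000010220) (nat_lit 25)
(Net.cons (nat_lit 0x48100021b0001864000909) (nat_lit 13)
(Net.cons (nat_lit 0x200000800c0010044011) (nat_lit 6)
(Net.cons (nat_lit 0xc00800000000108308140) (nat_lit 3)
(Net.cons (nat_lit 0x90048200000900002402000) (nat_lit 2)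
(Net.cons (nat_lit 0x94248200000924002412a00) (nat_lit 1)
(Net.cons (nat_lit 0x90048200004024812482608) (nat_lit 2)
(Net.cons (nat_lit 0x1000c00a1850050c108308142) (nat_lit 3)
(Net.cons (nat_lit 0x200680c803c030044011) (nat_lit 6)
(Net.cons (nat_lit 0x5c580021b0001864000909) (nat_lit 13)
(Net.cons (nat_lit 0x138ba58000000010260) (nat_lit 25)
(Net.cons (nat_lit 0x10af12e4f0268) (nat_lit 50)
Net.nil)))))))))))))

noncomputable def x12 : Net :=
(Net.cons (nat_lit 0x1833cde7c2ed6) (nat_lit 50)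
(Net.cons (nat_lit 0x621c828000000c17486) (nat_lit 25)
(Net.cons (nat_lit 0x241000213c001580000df6) (nat_lit 13)
(Net.cons (nat_lit 0x24014811003804803606802a) (nat_lit 6)
(Net.cons (nat_lit 0x820800420008018008204006) (nat_lit 3)
(Net.cons (nat_lit 0x8008100120000400000) (nat_lit 2)
(Net.cons (nat_lit 0x48524900a920920402402a08) (nat_lit 1)
(Net.cons (nat_lit 0x13008009804000882082608) (nat_lit 2)
(Net.cons (nat_lit 0x1430c2862010431c204388006) (nat_lit 3)
(Net.cons (nat_lit 0x2701501b80cc048006054026) (nat_lit 6)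
(Net.cons (nat_lit 0x2500002c3c0010340006dc) (nat_lit 13)
(Net.cons (nat_lit 0x3a55064000001ec8460) (nat_lit 25)
(Net.cons (nat_lit 0x3ed01273c4bf6) (nat_lit 50)
Net.nil)))))))))))))

noncomputable def x13 : Net :=
(Net.cons (nat_lit 0xef9f0f64fae0) (nat_lit 50)
(Net.cons (nat_lit 0x3a2cf80000015c4894) (nat_lit 25)
(Net.cons (nat_lit 0x3370001f3000078c000cd1) (nat_lit 13)
(Net.cons (nat_lit 0xa01c01f0060068068010023) (nat_lit 6)
(Net.cons (nat_lit 0x40082071040030c2080c0) (nat_lit 3)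
(Net.cons (nat_lit 0x2002049009104100010002008) (nat_lit 2)
(Net.cons (nat_lit 0x2091249008924905410012809) (nat_lit 1)
(Net.cons (nat_lit 0x491041248820120400402448) (nat_lit 2)
(Net.cons (nat_lit 0x430c1841820400008e38c181) (nat_lit 3)
(Net.cons (nat_lit 0x2101701d80e407000203c00c) (nat_lit 6)
(Net.cons (nat_lit 0x66e0000e54000490000673) (nat_lit 13)
(Net.cons (nat_lit 0x4cf8104000001720bec) (nat_lit 25)
(Net.cons (nat_lit 0x12e604c13477c) (nat_lit 50)
Net.nil)))))))))))))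

noncomputable def x14 : Net :=
(Net.cons (nat_lit 0x2a12af2a0fca0) (nat_lit 50)
(Net.cons (nat_lit 0x7602f2800000139fb6c) (nat_lit 25)
(Net.cons (nat_lit 0x65a000389c000606000ecc) (nat_lit 13)
(Net.cons (nat_lit 0x2001801200c007806802400a) (nat_lit 6)
(Net.cons (nat_lit 0x318008084008082) (nat_lit 3)
(Net.cons (nat_lit 0x2402209000020820012090400) (nat_lit 2)
(Net.cons (nat_lit 0x248120904a124820412090248) (nat_lit 1)
(Net.cons (nat_lit 0x482009200104024890010640) (nat_lit 2)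
(Net.cons (nat_lit 0xc40428c0021820c18e2000c4) (nat_lit 3)
(Net.cons (nat_lit 0x100f80b80d80a404a02600c) (nat_lit 6)
(Net.cons (nat_lit 0x7b98000250001b10000c20) (nat_lit 13)
(Net.cons (nat_lit 0x32c6640000001fd7b68) (nat_lit 25)
(Net.cons (nat_lit 0x2d410dab1452c) (nat_lit 50)
Net.nil)))))))))))))

noncomputable def x15 : Net :=
(Net.cons (nat_lit 0x214ae6e71b4fa) (nat_lit 50)
(Net.cons (nat_lit 0x508e0a0000000ffeb66) (nat_lit 25)
(Net.cons (nat_lit 0x60f8000f68001610000e58) (nat_lit 13)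
(Net.cons (nat_lit 0x1200001500200e002c000006) (nat_lit 6)
(Net.cons (nat_lit 0x102002080060020038800c004) (nat_lit 3)
(Net.cons (nat_lit 0x400009000104000800482448) (nat_lit 2)
(Net.cons (nat_lit 0x485249040104120402482848) (nat_lit 1)
(Net.cons (nat_lit 0x2040209024104410412048) (nat_lit 2)
(Net.cons (nat_lit 0x410a00a18204118002288104) (nat_lit 3)
(Net.cons (nat_lit 0x2a00b01980e400402205600e) (nat_lit 6)
(Net.cons (nat_lit 0x22b000129c00188a0008b8) (nat_lit 13)
(Net.cons (nat_lit 0x1020f40000000774e4e) (nat_lit 25)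
(Net.cons (nat_lit 0xe4f340db5fa) (nat_lit 50)
Net.nil)))))))))))))

noncomputable def x16 : Net :=
(Net.cons (nat_lit 0x3433ee48eaeb2) (nat_lit 50)
(Net.cons (nat_lit 0x475d618000001a41c28) (nat_lit 25)
(Net.cons (nat_lit 0x5b4800350c000e08000ae2) (nat_lit 13)
(Net.cons (nat_lit 0x2201d80200e8008066020015) (nat_lit 6)
(Net.cons (nat_lit 0x420c00610608008104182) (nat_lit 3)
(Net.cons (nat_lit 0x82008001000000080480008) (nat_lit 2)
(Net.cons (nat_lit 0x48124824a020805082490a09) (nat_lit 1)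
(Net.cons (nat_lit 0x2412009048920100090412001) (nat_lit 2)
(Net.cons (nat_lit 0x82063840060800438a08e085) (nat_lit 3)
(Net.cons (nat_lit 0x2700b00a00f002801a026011) (nat_lit 6)
(Net.cons (nat_lit 0x7080026d800146c000c5a) (nat_lit 13)
(Net.cons (nat_lit 0x410ba6c00000142a55a) (nat_lit 25)
(Net.cons (nat_lit 0x1e68f4a46687e) (nat_lit 50)
Net.nil)))))))))))))

noncomputable def R0 : List Net := [x0, x1, x2, x3, x4, x5, x6, x7, x8, x9, x10, x11, x12, x13, x14, x15, x16]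

theorem ok0 : TOK 100 R0 := TOK_of_ok (by decide +kernel)

noncomputable def R : List Net := R0 ++ T

theorem ok : TOK 100 R := tok_append ok0 okT

theorem sat : Sat (sig T) SchurG.HS.R :=
  sat_of_relsP okT (by norm_num) (show relsP (nat_lit 100) (nat_lit 7) (nat_lit 0) (nat_lit 7) T SchurG.HS.R = true by decide +kernel)

theorem satH : Sat (sig R) Schur.M22.RP :=
  sat_of_relsP ok (by norm_num) (show relsP (nat_lit 100) (nat_lit 7) (nat_lit 0) (nat_lit 7) R Schur.M22.RP = true by decide +kernel)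

def D : List (List Nat × List Nat) :=
  [([0], [23, 21, 23, 21, 23, 19, 21, 22, 21, 17, 22, 21, 22, 18, 17, 21, 18, 19, 17, 18]),
   ([1], [20, 23, 21, 23, 21, 23, 19, 21, 22, 21, 17, 22, 21, 22, 18, 17, 21, 18, 17, 20, 19, 18]),
   ([2], [18, 23, 21, 22, 18, 21, 23, 20, 21, 19, 22, 21, 22, 21, 22, 21, 20, 21, 18, 17, 20, 18, 19]),
   ([3], [22, 23, 22, 21, 17, 23, 20, 21, 22, 21, 22, 20, 21, 22, 21, 18, 21, 17, 18, 19, 17, 18]),
   ([4], [20, 23, 21, 23, 21, 23, 19, 18, 17, 20, 18, 19, 17]),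
   ([5], [23, 21, 22, 18, 21, 23, 20, 21, 19, 22, 21, 22, 21, 22, 21, 20, 21, 18, 17, 20, 18, 19, 18]),
   ([6], [21, 23, 18, 23, 21, 23, 22, 20, 19, 21, 22, 21, 22, 18, 17, 20, 17, 18, 19]),
   ([7], [23, 21, 23, 22, 21, 23, 21, 22, 21, 17, 22, 21, 22, 17, 21, 19, 18, 17, 20, 19, 17, 18, 17]),
   ([8], [20, 23, 21, 23, 22, 18, 17, 21, 22, 21, 19, 18, 21, 17, 20, 19, 17, 18]),
   ([9], [23, 21, 23, 22, 21, 17, 23, 20, 21, 22, 20, 21, 22, 20, 21, 18, 17, 20, 17, 18, 19, 18]),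
   ([10], [23, 21, 23, 22, 21, 23, 21, 22, 21, 22, 17, 21, 22, 21, 20, 21, 17, 20, 18]),
   ([11], [21, 17, 21, 22, 21, 23, 21, 19, 21, 22, 17, 21, 22, 21, 20, 21, 18, 17, 20, 19, 18, 17]),
   ([12], [20, 23, 18, 21, 23, 21, 18, 17, 21, 22, 21, 22, 21, 19, 18, 21, 19, 18, 17, 20, 18, 17]),
   ([13], [21, 23, 18, 23, 21, 23, 19, 22, 18, 21, 22, 21, 22, 21, 17, 21, 18, 19, 17]),
   ([14], [21, 22, 21, 23, 22, 18, 17, 21, 22, 21, 22, 21, 20, 21, 20, 17, 18, 19, 17, 18, 17]),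
   ([15], [21, 22, 23, 21, 23, 17, 21, 22, 21, 22, 20, 21, 22, 18, 17, 21, 20, 18, 19, 17, 18, 17]),
   ([16], [21, 19, 18, 23, 21, 17, 23, 18, 21, 22, 21, 22, 20, 21, 22, 21, 18, 17, 21, 18, 17, 20, 19])]

theorem defs : ∀ e ∈ D, ev (sig R) e.1 = ev (sig R) e.2 :=
  eq_of_eqsP ok (by norm_num) (show eqsP (nat_lit 100) (nat_lit 7) (nat_lit 0) (nat_lit 7) R D = true by decide +kernel)

/-- the group on 100 points -/
noncomputable def M : Subgroup (Equiv.Perm ℕ) := gen (sig T) 7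

/-- the point stabiliser -/
noncomputable def H : Subgroup (Equiv.Perm ℕ) := gen (sig R) 7

theorem allIn : AllIn M R :=
  AllIn.ext (AllIn.of_lt fun _ hx => letter_mem_gen hx) (o := 17) rfl defs (by decide +kernel)

theorem isoM : Nonempty (SchurG.HS.G ≃* M) := by
  have := SchurG.HS.simple
  obtain ⟨e, -⟩ := SchurG.HS.pres.equiv_of_simple SchurG.HS.hR (sig T) sat (x := 0)
    (by norm_num) fun h => ne_one_of_moves okT (w := [0]) (p := 0) (by norm_num)
      (by decide +kernel) (by rw [ev_single, h]; rfl)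
  exact ⟨e⟩

theorem isoH : Nonempty (Spor.M22 ≃* H) := by
  have := Golay.simple_M22
  obtain ⟨e, -⟩ := Schur.M22.pres.equiv_of_simple (by decide +kernel) (sig R) satH (x := 0)
    (by norm_num) fun h => ne_one_of_moves ok (w := [0]) (p := 5) (by norm_num)
      (by decide +kernel) (by rw [ev_single, h]; rfl)
  exact ⟨e⟩

theorem cardM : Nat.card M = 100 * 443520 :=
  isoM.elim fun e => (Nat.card_congr e.toEquiv).symm.trans (SchurG.HS.card.2.1.trans (by norm_num))

theorem cardH : Nat.card H = 443520 :=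
  isoH.elim fun e => (Nat.card_congr e.toEquiv).symm.trans Golay.card_M22

theorem orb0 : (MulAction.orbit M 0).ncard = 100 := by
  rw [show MulAction.orbit M 0 = bset 100 (ivl 0 100) from orbit_eq_bset (sch := [0, 1, 3, 4, 2, 6, 4, 0, 6, 1]) okT (by norm_num)
    (by decide +kernel) (by decide +kernel) (by decide +kernel), ncard_bset (l := 7) (by norm_num) (by decide +kernel)]
  decide +kernel

theorem st (g : Equiv.Perm ℕ) : g ∈ H ↔ g ∈ M ∧ g 0 = 0 :=
  haveI : Finite M := finite_of_le_Bd (okT.genW_le (letters 7))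
  stab_of_card (by norm_num) orb0 cardM cardH (fun g hg => ⟨gen_le.mpr (fun x _ => allIn x) hg,
    fix_of_invS ok (W := letters 7) (by decide +kernel) hg⟩) g

theorem all0 : AllIn H R0 := allIn_stab st ok0 allIn (o := 17) rfl (by decide +kernel)

def D0 : Nat := nat_lit 0x7ffffe

def G0 : Nat := nat_lit 0xfffffffffffffffffff800000

def S : Nat := nat_lit 0x0

def Z : Nat := nat_lit 0x178800

def N : Nat := nat_lit 0x84300a090022917000000

theorem m1 : Mod H 100 7 R0 1 D0 :=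
  ⟨ok0, all0, ok.genW_le _, by norm_num, orbit_eq_bset (sch := [6, 0, 2, 3, 0, 5, 0, 4]) ok (by norm_num) (by decide +kernel)
    (by decide +kernel) (by decide +kernel), lt_of_shift (by decide +kernel)⟩

theorem m2 : Mod H 100 7 R0 23 G0 :=
  ⟨ok0, all0, ok.genW_le _, by norm_num, orbit_eq_bset (sch := [0, 2, 3, 4, 0, 0, 5, 6, 0, 5, 3]) ok (by norm_num) (by decide +kernel)
    (by decide +kernel) (by decide +kernel), lt_of_shift (by decide +kernel)⟩

theorem top : Top M H 100 7 R0 R 1 D0 23 G0 S Z N :=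
  ⟨m1, m2, st, ok, allIn, okT.genW_le _, [18], [17], by decide +kernel⟩

def Q : List (Nat × List (List Nat)) :=
  [(7, [])]

def As1 : List (Nat × List Nat) :=
  [(1, []),
   (2, [0, 0, 0, 0, 0, 0]),
   (5, [0, 0, 0, 0, 0, 0]),
   (6, [0, 0, 0, 0, 0, 0])]

def w2 : List Nat :=
  [2, 6, 14, 8, 2, 14, 3, 8, 7, 8, 9, 15, 11, 14, 11, 0, 15, 11, 4, 13, 0, 9, 5]

theorem eqQ : ∀ e ∈ pcE (7 ^ 1) Q, ev (sig R0) e.1 = ev (sig R0) e.2 :=
  eq_of_eqsP ok0 (by norm_num) (show eqsP (nat_lit 100) (nat_lit 7) (nat_lit 0) (nat_lit 7) R0 _ = true by decide +kernel)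

theorem fixQ : invZ R0 (pcW Q) (pt 1) = true := by decide +kernel

theorem at1 : atomsB R0 (pcW Q) As1 D0 (f1W 7 2880 1 100 8191 22 R0 w2) = true := by decide +kernel

def Wq : List (List Nat) := [[13],
   [14]]

def As6 : List (Nat × List Nat) :=
  [(23, []),
   (24, [0, 1, 0, 1, 0, 0]),
   (27, [0, 1, 0, 0, 1, 0, 1, 0, 0, 1, 0, 1])]

theorem fixq : invZ R0 Wq (pt 23) = true := by decide +kernel

theorem at6 : atomsB R0 Wq As6 G0 (f6 7 22 6 23 N) = true := by decide +kernel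

def Wd : List (List Nat) := [[15],
   [16]]

def As3 : List (Nat × List Nat) :=
  [(1, []),
   (2, [0, 1, 0, 1, 0, 0, 0, 0])]

theorem fixd : invZ R0 Wd (pt 1) = true := by decide +kernel

theorem at3 : atomsB R0 Wd As3 D0 (f3 7 22 77 1 S) = true := by decide +kernel

theorem lam : Nat.beq (popc 7 S) 0 = true := by decide +kernel

def Y : List (Nat × List Nat) :=
  [(2, [6, 5]),
   (3, [9, 11]),
   (4, [6, 2]),
   (5, [9, 0]),
   (6, [9]),
   (7, [14]),
   (8, [6, 8]),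
   (9, [6, 10]),
   (10, [11]),
   (11, [6, 2, 3]),
   (12, [13]),
   (13, [8]),
   (14, [6, 3]),
   (15, [8, 2]),
   (16, [11, 4]),
   (17, [8, 1]),
   (18, [9, 5]),
   (19, [12]),
   (20, [12, 15]),
   (21, [6, 7]),
   (22, [6])]

theorem quad : quadB 7 22 77 0 6 6 5 1 D0 S R0 Y = true := by decide +kernel

def P : List (Nat × List (List Nat)) :=
  [(12, [[10, 9, 8, 8, 8, 8], [11, 8, 8], [8, 8, 8, 8, 8, 8], [11, 10, 8]]),
   (11, [[10], [9], [8, 8, 8]]),
   (10, [[9, 8, 8, 8, 8], [9, 8, 8, 8, 8, 8]]),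
   (9, [[8, 8, 8, 8, 8]]),
   (8, [])]

def As : List (Nat × List Nat) :=
  [(1, [0, 2, 3, 0, 0, 0]),
   (11, [0]),
   (15, [0, 4])]

theorem eqP : ∀ e ∈ pcE (2 ^ 3) P, ev (sig R0) e.1 = ev (sig R0) e.2 :=
  eq_of_eqsP ok0 (by norm_num) (show eqsP (nat_lit 100) (nat_lit 7) (nat_lit 0) (nat_lit 7) R0 _ = true by decide +kernel)

def e0 : List Nat × Nat × List Nat := ([], 0, [0, 0, 0, 0, 0, 0, 0, 0, 0, 1, 0, 0, 0, 2, 2, 2, 2, 0, 1, 0, 0])

def C : List (List Nat × Nat × List Nat) :=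
  [([6, 2, 3], 1, [0, 0, 0, 0, 0, 0, 0, 1, 2, 2, 2, 0, 0, 0, 0, 0, 2, 0, 0, 0, 0]),
   ([8, 2], 2, [0, 2, 0, 0, 0, 1, 0, 0, 0, 0, 1, 0, 0, 2, 0, 2, 0, 0, 0, 0, 0])]

theorem cons : ConsOK 1 D0 R0 (pcW P) As (Y.map Prod.fst) (e0 :: C) :=
  ConsOK.of (by decide +kernel)

def sols : List (Nat × List Nat × Nat) :=
  [(0x6, [], Z)]

theorem sols_ok : solB D0 R0 (pcW P) As sols = true := by decide +kernel

def w1 : List Nat :=
  [7, 8, 8, 1, 3, 12, 3, 5, 13, 5, 4, 11, 5, 13, 8, 15, 8, 15, 12, 16, 0, 10, 14, 12, 14, 10, 6, 7, 11, 10, 8, 4, 11, 10, 0, 13, 3, 7, 1]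

theorem good : Nat.ble 39 (walk 100 8191 R0 w1 Z (nat_lit 0) (nat_lit 0)) = true := by decide +kernel

def C2 : List (Nat × List Nat) :=
  [(nat_lit 1, [nat_lit 0, nat_lit 0, nat_lit 0, nat_lit 0, nat_lit 0, nat_lit 0, nat_lit 0, nat_lit 1, nat_lit 2, nat_lit 2, nat_lit 2, nat_lit 0, nat_lit 0, nat_lit 0, nat_lit 0, nat_lit 0, nat_lit 2, nat_lit 0, nat_lit 0, nat_lit 0, nat_lit 0]),
   (nat_lit 2, [nat_lit 0, nat_lit 2, nat_lit 0, nat_lit 0, nat_lit 0, nat_lit 1, nat_lit 0, nat_lit 0, nat_lit 0, nat_lit 0, nat_lit 1, nat_lit 0, nat_lit 0, nat_lit 2, nat_lit 0, nat_lit 2, nat_lit 0, nat_lit 0, nat_lit 0, nat_lit 0, nat_lit 0])]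

def S2 : List Nat := [nat_lit 0x6]

open Dt in
noncomputable def tT : Dt :=
(br (nat_lit 0) (lf (nat_lit 2))
(br (nat_lit 1) (br (nat_lit 2) Dt.sol
(lf (nat_lit 2)))
(lf (nat_lit 2))))

theorem tree : dp (nat_lit 6) (nat_lit 5) (nat_lit 21) (nat_lit 0x7) (nat_lit 0, [nat_lit 0, nat_lit 0, nat_lit 0, nat_lit 0, nat_lit 0, nat_lit 0, nat_lit 0, nat_lit 0, nat_lit 0, nat_lit 1, nat_lit 0, nat_lit 0, nat_lit 0, nat_lit 2, nat_lit 2, nat_lit 2, nat_lit 2, nat_lit 0, nat_lit 1, nat_lit 0, nat_lit 0]) C2 S2 tT (nat_lit 0) (nat_lit 0) = true := by decide +kernel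

def prog : List Ai :=
  [Ai.fx 0 [],
   Ai.fx 27 [17, 1],
   Ai.fx 70 [17, 2, 10],
   Ai.ct [(8, [19, 12]), (15, [18, 8, 2])],
   Ai.fx 23 [17],
   Ai.ct [(15, [18, 8, 2])],
   Ai.ct [(11, [21, 3])],
   Ai.ct [(17, [21, 16])],
   Ai.ct [(28, [18, 17])],
   Ai.fx 10 [18, 11],
   Ai.ct [(77, [17, 1, 15])],
   Ai.ct [(20, [20, 7])],
   Ai.ct [(12, [18, 13])],
   Ai.ct [(37, [17, 3, 4])],
   Ai.ct [(19, [18, 12])],
   Ai.ct [(14, [21, 9])],
   Ai.ct [(38, [17, 1, 17])],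
   Ai.ct [(35, [22, 8])],
   Ai.ct [(63, [17, 7, 0])],
   Ai.ct [(83, [17, 2, 7])]]

theorem aut : autB 100 7 D0 R prog [] 88704000 = true := by decide +kernel

theorem core {Ω : Type*} [Fintype Ω] (E : SimpleGraph Ω) [DecidableRel E.Adj] [MulAction H Ω] (a : Ω)
    (la mu : ℕ) (A : Abs E H a 22 77 la mu) : ∃ ι : Ω ↪ ℕ, (∀ x, ι x < 100) ∧ (∀ i < 100, ∃ x, ι x = i) ∧
      ∀ x y, E.Adj x y ↔ adj0 M 100 D0 (ι x) (ι y) := by
  obtain ⟨b, hb, hs⟩ := step1W A m1 (by decide +kernel) (v := 1) (by norm_num : Nat.Prime 7)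
    (cardH.trans (by norm_num)) (by norm_num) (by norm_num) eqQ (by decide +kernel) fixQ at1
  obtain ⟨rfl, f, L, z, hz, c, h1, h2⟩ := steps A m1 hb hs fixd at3 lam
    (by norm_num) quad Nat.prime_two (by norm_num) eqP (by decide +kernel) cons
    (dp_congr tree (by decide +kernel)) sols_ok (good := [Z]) (bad := []) (by decide +kernel)
    (r := 0) (w := []) (by simp)
  rw [List.mem_singleton.mp hz] at h2
  exact step6 top A L (by norm_num) (by decide +kernel) h1 h2 (by norm_num) good fixq at6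

theorem recog {Ω : Type*} [Fintype Ω] [DecidableEq Ω] (hΩ : Fintype.card Ω = 100)
    (Γ : Subgroup (Equiv.Perm Ω)) [MulAction.IsPretransitive Γ Ω] (a : Ω)
    (e : MulAction.stabilizer Γ a ≃* Spor.M22) (b c : Ω)
    (hb : (MulAction.orbit (MulAction.stabilizer Γ a) b).ncard = 22)
    (hc : (MulAction.orbit (MulAction.stabilizer Γ a) c).ncard = 77) : Nonempty (Γ ≃* SchurG.HS.G) := by
  have := SchurG.HS.simple
  obtain ⟨e0⟩ := isoM
  have := e0.symm.isSimpleGroup
  obtain ⟨e1⟩ := isoH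
  obtain ⟨e2⟩ := glue top aut (r := 11) (by norm_num) cardM cardH
    (by norm_num) core hΩ Γ a (e1.symm.trans e.symm) b c hb hc
  exact ⟨e2.trans e0.symm⟩

end Cfsg.Agent.R3.HS
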